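import Mathlib

/-!
# Class sizes: inheritance and covering by conjugates

Class sizes in normal subgroups and in quotients divide class sizes in the group, and a finite group
is not covered by the conjugates of a proper subgroup.
-/

set_option autoImplicit false

namespace CfsgLib.ClassGraph

variable {G : Type*} [Group G]

/-- The size of the conjugacy class of `x`. -/
noncomputable def classIndex (x : G) : ℕ := (Subgroup.centralizer ({x} : Set G)).index

/-- A finite group is not covered by the conjugates of a proper subgroup. -/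
theorem eq_top_of_cover [Finite G] (D : Subgroup G) (h : ∀ x : G, ∃ c : G, c⁻¹ * x * c ∈ D) :
    D = ⊤ := by
  classical
  have := Fintype.ofFinite G
  have := Fintype.ofFinite (G ⧸ D)
  have h1 := MulAction.sum_card_fixedBy_eq_card_orbits_mul_card_group G (G ⧸ D)
  have horb : Fintype.card (MulAction.orbitRel.Quotient G (G ⧸ D)) = 1 :=
    Fintype.card_eq_one_iff.mpr ⟨Quotient.mk'' ((1 : G) : G ⧸ D), fun y => by
      induction y using Quotient.inductionOn' with
      | h a => exact Quotient.sound' (MulAction.exists_smul_eq G _ _)⟩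
  rw [horb, one_mul] at h1
  have hge : ∀ x : G, 1 ≤ Fintype.card (MulAction.fixedBy (G ⧸ D) x) := by
    intro x
    obtain ⟨c, hc⟩ := h x
    refine Fintype.card_pos_iff.mpr ⟨⟨(c : G ⧸ D), ?_⟩⟩
    change ((x * c : G) : G ⧸ D) = (c : G ⧸ D)
    refine (QuotientGroup.eq.mpr ?_).symm
    simpa [mul_assoc] using hc
  have h2 : Fintype.card (MulAction.fixedBy (G ⧸ D) (1 : G)) ≤ 1 := by
    by_contra hlt
    have : ∑ _y : G, 1 < ∑ y : G, Fintype.card (MulAction.fixedBy (G ⧸ D) y) :=
      Finset.sum_lt_sum (fun y _ => hge y) ⟨1, Finset.mem_univ _, not_le.1 hlt⟩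
    rw [h1, Finset.sum_const, Finset.card_univ, smul_eq_mul, mul_one] at this
    exact lt_irrefl _ this
  refine Subgroup.index_eq_one.mp ?_
  have h3 : Nat.card (G ⧸ D) = Fintype.card (MulAction.fixedBy (G ⧸ D) (1 : G)) := by
    rw [← Nat.card_eq_fintype_card]
    exact Nat.card_congr (Equiv.subtypeUnivEquiv fun y => one_smul G y).symm
  have h4 : D.index = Nat.card (G ⧸ D) := rfl
  have h5 : 0 < Nat.card (G ⧸ D) := Nat.card_pos
  omega

/-- The class size of an image divides the class size. -/
theorem classIndex_map_dvd {H : Type*} [Group H] (f : G →* H) (hf : Function.Surjective f)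
    (x : G) : classIndex (f x) ∣ classIndex x := by
  refine dvd_trans (Subgroup.index_dvd_of_le
    (H := (Subgroup.centralizer ({x} : Set G)).map f) ?_) (Subgroup.index_map_dvd _ hf)
  rintro _ ⟨c, hc, rfl⟩
  rw [Subgroup.mem_centralizer_singleton_iff] at *
  rw [← map_mul, ← map_mul, Subgroup.mem_centralizer_singleton_iff.1 hc]

/-- The relative index in a normal subgroup divides the index. -/
theorem relIndex_dvd_index [Finite G] (T R : Subgroup G) [R.Normal] :
    T.relIndex R ∣ T.index := by
  have h1 := Subgroup.relIndex_mul_index (inf_le_right : T ⊓ R ≤ R)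
  have h2 := Subgroup.relIndex_mul_index (inf_le_left : T ⊓ R ≤ T)
  rw [Subgroup.inf_relIndex_right] at h1
  rw [Subgroup.inf_relIndex_left, ← h1] at h2
  obtain ⟨a, ha⟩ : R.relIndex T ∣ R.index := Subgroup.relIndex_dvd_index_of_normal R T
  have h0 : R.relIndex T ≠ 0 := (R.subgroupOf T).index_ne_zero_of_finite
  refine ⟨a, Nat.eq_of_mul_eq_mul_left (Nat.pos_of_ne_zero h0) ?_⟩
  rw [h2, ha]
  ring

/-- The class size in a normal subgroup divides the class size in the group. -/
theorem classIndex_normal_dvd [Finite G] {N : Subgroup G} [N.Normal] (x : N) :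
    classIndex x ∣ classIndex (x : G) := by
  have h : Subgroup.centralizer ({x} : Set N)
      = (Subgroup.centralizer ({(x : G)} : Set G)).subgroupOf N := by
    ext y
    rw [Subgroup.mem_subgroupOf, Subgroup.mem_centralizer_singleton_iff,
      Subgroup.mem_centralizer_singleton_iff, Subtype.ext_iff]
    rfl
  rw [classIndex, h]
  exact relIndex_dvd_index _ N

end CfsgLib.ClassGraph
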