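import Mathlib
import Cfsg.Agent.Lib.ClassGraph.Basic
import Cfsg.Agent.Lib.Solvable.SmallOrder

/-!
# No class size divisible by four

Every element centralises, up to conjugacy, a subgroup of index at most two of a Sylow 2-subgroup.
In a simple group this forces an elementary abelian Sylow 2-subgroup centralised by its normaliser.
The solvability of groups of odd order is the hypothesis `hFT`.
-/

set_option autoImplicit false

namespace CfsgLib.ClassGraph.FourFree

universe u

open CfsgLib.ClassGraph

/-- A homomorphism to a group of order two cannot send an odd product of non-trivial values to one. -/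
theorem exists_mem_ker_of_odd {P C ι : Type*} [CommGroup P] [CommGroup C] [Fintype ι]
    (χ : P →* C) (hC : ∀ a b : C, a ≠ 1 → b ≠ 1 → a = b) (hC2 : ∀ a : C, a * a = 1)
    (hι : Odd (Fintype.card ι)) (w : ι → P) (hw : ∏ i, w i = 1) : ∃ i, χ (w i) = 1 := by
  by_contra hne
  push Not at hne
  have i0 : ι := Classical.choice (Fintype.card_pos_iff.1 hι.pos)
  have hconst : ∀ i, χ (w i) = χ (w i0) := fun i => hC _ _ (hne i) (hne i0)
  have h1 : χ (∏ i, w i) = χ (w i0) ^ Fintype.card ι := by
    rw [map_prod, Finset.prod_congr rfl (fun i _ => hconst i), Finset.prod_const, Finset.card_univ]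
  obtain ⟨k, hk⟩ := hι
  rw [hw, map_one, hk, pow_succ, pow_mul, sq, hC2, one_pow, one_mul] at h1
  exact hne i0 h1.symm

variable {G : Type u} [Group G] [Finite G]

/-- Every element is conjugate to one centralising a subgroup of index at most two in `P`. -/
theorem exists_conj_centralizes (P : Sylow 2 G) (n : ℕ)
    (hn : Nat.card (P : Subgroup G) = 2 ^ (n + 1)) (g : G) (h : ¬ 4 ∣ classIndex g) :
    ∃ (c : G) (Q : Subgroup G), Q ≤ (P : Subgroup G) ∧ Q.relIndex (P : Subgroup G) = 2 ∧
      ∀ y ∈ Q, Commute y (c * g * c⁻¹) := by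
  haveI : Fact (Nat.Prime 2) := ⟨Nat.prime_two⟩
  set C := Subgroup.centralizer ({g} : Set G) with hC
  have hdvd : 2 ^ n ∣ Nat.card C := by
    have h1 : 2 ^ (n + 1) ∣ Nat.card C * C.index := by
      rw [Subgroup.card_mul_index, ← hn]
      exact Subgroup.card_subgroup_dvd_card _
    obtain ⟨k, m, hm, hkm⟩ := Nat.exists_eq_two_pow_mul_odd (n := C.index)
      Subgroup.FiniteIndex.index_ne_zero
    have hk : k ≤ 1 := by
      by_contra hlt
      apply h
      show 2 ^ 2 ∣ C.index
      rw [hkm]
      exact (pow_dvd_pow 2 (show 2 ≤ k by omega)).trans (dvd_mul_right _ m)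
    have h2 : 2 ^ (n + 1) ∣ Nat.card C * 2 ^ k := by
      have hcop : Nat.Coprime (2 ^ (n + 1)) m := Nat.Coprime.pow_left _ (Nat.coprime_two_left.2 hm)
      have := h1
      rw [hkm, ← mul_assoc] at this
      exact hcop.dvd_mul_right.1 this
    have h3 : 2 ^ (n + 1) ∣ Nat.card C * 2 ^ 1 :=
      h2.trans (Nat.mul_dvd_mul_left _ (pow_dvd_pow 2 hk))
    rw [pow_one, pow_succ] at h3
    exact (Nat.mul_dvd_mul_iff_right two_pos).1 h3
  obtain ⟨R, hR⟩ := Sylow.exists_subgroup_card_pow_prime (G := C) 2 hdvd
  set R' := R.map C.subtype with hR'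
  have hcardR : Nat.card R' = 2 ^ n := by
    rw [hR', Subgroup.card_map_of_injective C.subtype_injective, hR]
  obtain ⟨S, hS⟩ := (IsPGroup.of_card hcardR).exists_le_sylow
  obtain ⟨c, hc⟩ := MulAction.exists_smul_eq G S P
  refine ⟨c, R'.map (MulAut.conj c).toMonoidHom, ?_, ?_, ?_⟩
  · rintro _ ⟨y, hy, rfl⟩
    rw [← hc, Sylow.coe_subgroup_smul]
    exact Subgroup.smul_mem_pointwise_smul _ _ _ (hS hy)
  · have hle : R'.map (MulAut.conj c).toMonoidHom ≤ (P : Subgroup G) := by
      rintro _ ⟨y, hy, rfl⟩
      rw [← hc, Sylow.coe_subgroup_smul]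
      exact Subgroup.smul_mem_pointwise_smul _ _ _ (hS hy)
    have := Subgroup.card_mul_index
      ((R'.map (MulAut.conj c).toMonoidHom).subgroupOf (P : Subgroup G))
    rw [Nat.card_congr (Subgroup.subgroupOfEquivOfLe hle).toEquiv,
      Subgroup.card_map_of_injective (MulAut.conj c).injective, hcardR, hn, pow_succ] at this
    exact Nat.eq_of_mul_eq_mul_left (pow_pos two_pos n) this
  · rintro _ ⟨y, ⟨y', hy', rfl⟩, rfl⟩
    have hy2 : Commute (y' : G) g := Subgroup.mem_centralizer_singleton_iff.1 y'.2
    exact hy2.map (MulAut.conj c).toMonoidHom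

/-- A simple group of even order has a class size divisible by four. -/
theorem not_simple [IsSimpleGroup G] (hns : ¬ Group.IsSolvable G) (heven : 2 ∣ Nat.card G)
    (h : ∀ x : G, ¬ 4 ∣ classIndex x) : False := by
  classical
  haveI : Fact (Nat.Prime 2) := ⟨Nat.prime_two⟩
  obtain ⟨P⟩ : Nonempty (Sylow 2 G) := inferInstance
  obtain ⟨n, hn⟩ : ∃ n, Nat.card (P : Subgroup G) = 2 ^ (n + 1) := by
    obtain ⟨k, hk⟩ := IsPGroup.iff_card.1 P.2
    cases k with
    | zero =>
      exfalso
      have := P.dvd_card_of_dvd_card heven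
      rw [hk] at this
      norm_num at this
    | succ n => exact ⟨n, hk⟩
  -- nothing non-trivial in `P` is centralised by a conjugate of every element
  have key : ∀ t : G, (∀ g : G, ∃ c : G, Commute t (c * g * c⁻¹)) → t = 1 := by
    intro t ht
    have htop : Subgroup.centralizer ({t} : Set G) = ⊤ :=
      eq_top_of_cover _ fun g => by
        obtain ⟨c, hc⟩ := ht g
        refine ⟨c⁻¹, ?_⟩
        rw [Subgroup.mem_centralizer_singleton_iff, inv_inv]
        exact hc.symm.eq
    have hz : t ∈ Subgroup.center G := Subgroup.mem_center_iff.2 fun g => by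
      have : g ∈ Subgroup.centralizer ({t} : Set G) := htop ▸ Subgroup.mem_top g
      exact Subgroup.mem_centralizer_singleton_iff.1 this
    rcases (inferInstance : (Subgroup.center G).Normal).eq_bot_or_eq_top with e | e
    · rwa [e, Subgroup.mem_bot] at hz
    · exact absurd (Group.isSolvable_of_comm fun a b => Subgroup.mem_center_iff.1
        (e ▸ Subgroup.mem_top b) a) hns
  -- `P` is elementary abelian
  have hsq : ∀ x ∈ (P : Subgroup G), x * x = 1 := fun x hx => by
    refine key _ fun g => ?_
    obtain ⟨c, Q, -, hQ2, hQc⟩ := exists_conj_centralizes P n hn g (h g)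
    exact ⟨c, hQc _ (by
      have := Subgroup.mul_self_mem_of_index_two (H := Q.subgroupOf (P : Subgroup G)) hQ2 ⟨x, hx⟩
      exact this)⟩
  letI : CommGroup (P : Subgroup G) :=
    { (inferInstance : Group (P : Subgroup G)) with
      mul_comm := fun a b => by
        have hinv : ∀ z : (P : Subgroup G), z⁻¹ = z := fun z =>
          inv_eq_of_mul_eq_one_right (Subtype.ext (hsq z z.2))
        rw [← hinv (a * b), mul_inv_rev, hinv, hinv] }
  have hcomm : ∀ a ∈ (P : Subgroup G), ∀ b ∈ (P : Subgroup G), a * b = b * a := fun a ha b hb =>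
    congrArg Subtype.val (mul_comm (⟨a, ha⟩ : (P : Subgroup G)) ⟨b, hb⟩)
  -- the normaliser does not centralise `P`
  set N := Subgroup.normalizer ((P : Subgroup G) : Set G) with hN
  have hNC : ¬ N ≤ Subgroup.centralizer ((P : Subgroup G) : Set G) := by
    intro hle
    have hC := MonoidHom.ker_transferSylow_isComplement' P hle
    rcases (inferInstance : (MonoidHom.transferSylow P hle).ker.Normal).eq_bot_or_eq_top with
      e | e
    · rw [e] at hC
      have htop : (P : Subgroup G) = ⊤ := Subgroup.isComplement'_bot_left.1 hC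
      apply hns
      exact Group.isSolvable_of_comm fun a b =>
        hcomm a (htop ▸ Subgroup.mem_top a) b (htop ▸ Subgroup.mem_top b)
    · rw [e] at hC
      have hbot : (P : Subgroup G) = ⊥ := Subgroup.isComplement'_top_left.1 hC
      rw [hbot, Subgroup.card_bot] at hn
      exact absurd hn (Nat.ne_of_lt (Nat.one_lt_two_pow (by omega)))
  obtain ⟨m, hmN, hm⟩ := SetLike.not_le_iff_exists.1 hNC
  obtain ⟨v, hv, hmv⟩ : ∃ v ∈ (P : Subgroup G), v * m ≠ m * v := by
    by_contra hne
    push Not at hne
    exact hm (Subgroup.mem_centralizer_iff.2 hne)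
  -- the automiser, a group of odd order
  set K := (Subgroup.centralizer ((P : Subgroup G) : Set G)).subgroupOf N with hK
  have hPN : (P : Subgroup G) ≤ N := Subgroup.le_normalizer
  haveI : K.Normal := by
    rw [hK]
    infer_instance
  let A := N ⧸ K
  have hAodd : Odd (Nat.card A) := by
    have h1 : Nat.card A ∣ (P : Subgroup G).relIndex N :=
      Subgroup.index_dvd_of_le (H := (P : Subgroup G).subgroupOf N) fun y hy =>
        Subgroup.mem_centralizer_iff.2 fun z hz => hcomm z hz (y : G) hy
    have h2 : (P : Subgroup G).relIndex N ∣ (P : Subgroup G).index :=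
      Subgroup.relIndex_dvd_index_of_le hPN
    refine Odd.of_dvd_nat ?_ (h1.trans h2)
    rw [Nat.odd_iff, ← Nat.two_dvd_ne_zero]
    exact P.not_dvd_index
  let act : ↥N → ↥(P : Subgroup G) → ↥(P : Subgroup G) := fun b x =>
    ⟨(b : G) * x * (b : G)⁻¹, (Subgroup.mem_normalizer_iff.1 b.2 _).1 x.2⟩
  have hact : ∀ (b : N) (k : N), k ∈ K → ∀ x, act (b * k) x = act b x := by
    intro b k hk x
    apply Subtype.ext
    show (b : G) * k * x * ((b : G) * k)⁻¹ = (b : G) * x * (b : G)⁻¹
    have hc : (x : G) * (k : G) = (k : G) * x := Subgroup.mem_centralizer_iff.1 hk x x.2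
    rw [mul_assoc (b : G) (k : G), ← hc]
    group
  have hactmul : ∀ b x y, act b (x * y) = act b x * act b y := fun b x y => by
    apply Subtype.ext
    show (b : G) * ((x : G) * y) * (b : G)⁻¹
      = ((b : G) * x * (b : G)⁻¹) * ((b : G) * y * (b : G)⁻¹)
    group
  let rep : A → ↥(P : Subgroup G) → ↥(P : Subgroup G) := fun a => act a.out
  have hrep : ∀ (b : N) x, rep (QuotientGroup.mk b) x = act b x := fun b x => by
    obtain ⟨k, hk⟩ := QuotientGroup.mk_out_eq_mul K b
    show act (Quotient.out (QuotientGroup.mk b : N ⧸ K)) x = act b x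
    rw [hk, hact b k k.2]
  haveI : Fintype A := Fintype.ofFinite A
  let vv : (P : Subgroup G) := ⟨v, hv⟩
  let mm : N := ⟨m, hmN⟩
  set u : (P : Subgroup G) := act mm vv * vv⁻¹ with hu
  have hu1 : u ≠ 1 := by
    intro e
    rw [hu, mul_inv_eq_one] at e
    have e' : m * v * m⁻¹ = v := congrArg Subtype.val e
    exact hmv (mul_inv_eq_iff_eq_mul.1 e').symm
  have hprod : ∏ a : A, rep a u = 1 := by
    have h1 : ∀ a : A, rep a u = rep (a * QuotientGroup.mk mm) vv * (rep a vv)⁻¹ := by
      intro a
      induction a using QuotientGroup.induction_on with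
      | H b =>
        rw [← QuotientGroup.mk_mul, hrep, hrep, hrep, hu, hactmul]
        congr 1
        · apply Subtype.ext
          show (b : G) * (m * v * m⁻¹) * (b : G)⁻¹ = (b : G) * m * v * ((b : G) * m)⁻¹
          group
        · apply Subtype.ext
          show (b : G) * v⁻¹ * (b : G)⁻¹ = ((b : G) * v * (b : G)⁻¹)⁻¹
          group
    rw [Finset.prod_congr rfl (fun a _ => h1 a), Finset.prod_mul_distrib, Finset.prod_inv_distrib,
      Fintype.prod_equiv (Equiv.mulRight (QuotientGroup.mk mm : A))
        (fun a => rep (a * QuotientGroup.mk mm) vv) (fun a => rep a vv) (fun _ => rfl),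
      mul_inv_cancel]
  -- every element centralises a conjugate of `u`
  refine hu1 (Subtype.ext (key (u : G) fun g => ?_))
  obtain ⟨c, Q, -, hQ2, hQc⟩ := exists_conj_centralizes P n hn g (h g)
  set Q' := Q.subgroupOf (P : Subgroup G) with hQ'
  obtain ⟨a, ha⟩ : ∃ a : A, rep a u ∈ Q' := by
    have hidx : Q'.index = 2 := hQ2
    have hC : ∀ a b : (P : Subgroup G) ⧸ Q', a ≠ 1 → b ≠ 1 → a = b := by
      intro a b ha hb
      induction a using QuotientGroup.induction_on with
      | H a =>
        induction b using QuotientGroup.induction_on with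
        | H b =>
          rw [ne_eq, QuotientGroup.eq_one_iff] at ha hb
          rw [QuotientGroup.eq, Subgroup.mul_mem_iff_of_index_two hidx, inv_mem_iff]
          exact iff_of_false ha hb
    have hC2 : ∀ a : (P : Subgroup G) ⧸ Q', a * a = 1 := by
      intro a
      induction a using QuotientGroup.induction_on with
      | H a => rw [← QuotientGroup.mk_mul, QuotientGroup.eq_one_iff]
               exact Subgroup.mul_self_mem_of_index_two hidx a
    obtain ⟨a, ha⟩ := exists_mem_ker_of_odd (QuotientGroup.mk' Q') hC hC2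
      (by rw [← Nat.card_eq_fintype_card]; exact hAodd) (fun a : A => rep a u) hprod
    exact ⟨a, (QuotientGroup.eq_one_iff _).1 ha⟩
  revert ha
  induction a using QuotientGroup.induction_on with
  | H b =>
    intro ha
    rw [hrep] at ha
    refine ⟨(b : G)⁻¹ * c, ?_⟩
    have h1 : Commute ((b : G) * (u : G) * (b : G)⁻¹) (c * g * c⁻¹) := hQc _ ha
    have h2 := h1.map (MulAut.conj (b : G)⁻¹).toMonoidHom
    simp only [MulEquiv.toMonoidHom_eq_coe, MonoidHom.coe_coe, MulAut.conj_apply] at h2
    convert h2 using 1 <;> group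

/-- No class size divisible by four implies solvable, given the odd order theorem. -/
theorem isSolvable
    (hFT : ∀ (X : Type u) [Group X] [Finite X], Odd (Nat.card X) → Group.IsSolvable X) :
    ∀ (n : ℕ) (G : Type u) [Group G] [Finite G], Nat.card G = n →
      (∀ x : G, ¬ 4 ∣ classIndex x) → Group.IsSolvable G := by
  intro n
  induction n using Nat.strong_induction_on with
  | _ n ih =>
    intro G _ _ hn h
    by_contra hns
    haveI : Nontrivial G := not_subsingleton_iff_nontrivial.1 fun hs =>
      hns (Group.isSolvable_of_comm fun a b => Subsingleton.elim _ _)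
    by_cases hsimple : IsSimpleGroup G
    · rcases Nat.even_or_odd (Nat.card G) with he | ho
      · exact not_simple hns (even_iff_two_dvd.1 he) h
      · exact hns (hFT G ho)
    · obtain ⟨N, hN, hN1, hN2⟩ : ∃ N : Subgroup G, N.Normal ∧ N ≠ ⊥ ∧ N ≠ ⊤ := by
        by_contra hne
        push Not at hne
        exact hsimple ⟨fun N hN => or_iff_not_imp_left.2 fun hb => hne N hN hb⟩
      haveI := hN
      have hlt1 : Nat.card N < n := by
        rw [← hn]
        exact lt_of_le_of_ne (Subgroup.card_le_card_group N) fun e =>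
          hN2 (Subgroup.eq_top_of_card_eq N e)
      have hlt2 : Nat.card (G ⧸ N) < n := by
        rw [← hn, Subgroup.card_eq_card_quotient_mul_card_subgroup N]
        exact lt_mul_of_one_lt_right Nat.card_pos (N.one_lt_card_iff_ne_bot.2 hN1)
      refine hns (CfsgLib.Solvable.isSolvable_of_normal N
        (ih _ hlt1 N rfl fun x hx => h x (hx.trans (classIndex_normal_dvd x))) ?_)
      refine ih _ hlt2 (G ⧸ N) rfl fun x hx => ?_
      obtain ⟨y, rfl⟩ := QuotientGroup.mk'_surjective N x
      exact h y (hx.trans (classIndex_map_dvd _ (QuotientGroup.mk'_surjective N) y))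

end CfsgLib.ClassGraph.FourFree
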